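import Cfsg.Agent.Lib.Helper79.S4719.Defs
import Cfsg.Agent.Lib.Helper16.BlockBasic
import Cfsg.Agent.Lib.Helper77.Deflation
import Cfsg.Agent.Lib.Helper78.CharMore
import Cfsg.Agent.Lib.Helper79.Integrality
import Cfsg.Agent.S0941

/-!
# S4719-[QUOT] (helper11): deficiency class `r + 1` for `C` gives deficiency class `r` for `C ⧸ Z`,
`Z` central of order `p`.
-/

set_option autoImplicit false

namespace Cfsg.Agent.Lib.Helper79.S4719

open Cfsg

universe u

/-- [QUOT] -/
theorem dc_quotient {C : Type u} [Group C] [Finite C] (p : ℕ) [Fact p.Prime] (M : Ideal AlgInt)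
    (hM : IsPModular p M) (Z : Subgroup C) [Z.Normal] (hZc : Z ≤ Subgroup.center C)
    (hZ : Nat.card Z = p) (r : ℕ) (h : DC p M C (r + 1)) : DC p M (C ⧸ Z) r := by
  intro Bbar hBbar hnp
  have hp : p.Prime := Fact.out
  have hMmax : M.IsMaximal := hM.2.1
  have : M.IsPrime := hMmax.isPrime
  have hMtop : M ≠ ⊤ := hMmax.ne_top
  -- the hypotheses of S0941
  have hP : IsPGroup p Z := IsPGroup.of_card (n := 1) (by rw [hZ, pow_one])
  have hcent : Subgroup.centralizer (Z : Set C) = ⊤ := by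
    rw [eq_top_iff]
    intro g _
    rw [Subgroup.mem_centralizer_iff]
    intro z hz
    exact (Subgroup.mem_center_iff.mp (hZc hz) g).symm
  have hC : ∃ k : ℕ, (Subgroup.centralizer (Z : Set C)).index = p ^ k :=
    ⟨0, by rw [hcent, Subgroup.index_top, pow_zero]⟩
  obtain ⟨h941, -⟩ := Cfsg.Agent.S0941.result p M hM Z hP hC
  -- a member of `Bbar` of minimal `p`-part of the degree
  have hne : ((fun χ : IrrCharacter (C ⧸ Z) =>
      (charDegree (χ : C ⧸ Z → ℂ)).factorization p) '' Bbar).Nonempty :=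
    (Cfsg.Agent.Lib.Helper16.IsPBlock_nonempty hMtop hBbar).image _
  obtain ⟨χbar, hχbar, hmin⟩ := Nat.sInf_mem hne
  -- its inflation and the block of the inflation
  have hB : IsPBlock M (blockOf M ((Cfsg.Agent.Lib.Helper77.inflate Z χbar : IrrCharacter C) : C → ℂ)) :=
    Cfsg.Agent.Lib.Helper16.isPBlock_blockOf _
  have hBnp : blockOf M ((Cfsg.Agent.Lib.Helper77.inflate Z χbar : IrrCharacter C) : C → ℂ) ≠
      principalBlock M C := by
    intro hEq
    have hχB := Cfsg.Agent.Lib.Helper16.self_mem_blockOf hMtop (Cfsg.Agent.Lib.Helper77.inflate Z χbar)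
    rw [hEq] at hχB
    have hsb : SameBlock M (fun _ : C => (1 : ℂ))
        ((Cfsg.Agent.Lib.Helper77.inflate Z χbar : IrrCharacter C) : C → ℂ) := hχB
    have hsb' : SameBlock M
        (((⟨fun _ => 1, Cfsg.Agent.Lib.Helper78.isIrrCharacter_one⟩ : IrrCharacter (C ⧸ Z)) :
          C ⧸ Z → ℂ) ∘ QuotientGroup.mk) ((χbar : C ⧸ Z → ℂ) ∘ QuotientGroup.mk) := hsb
    have hsb'' := (h941 ⟨fun _ => 1, Cfsg.Agent.Lib.Helper78.isIrrCharacter_one⟩ χbar).mpr hsb'
    apply hnp
    rw [Cfsg.Agent.Lib.Helper16.IsPBlock_eq_blockOf hBbar hχbar]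
    exact Cfsg.Agent.Lib.Helper16.blockOf_eq_of_mem (M := M) (χ := fun _ : C ⧸ Z => (1 : ℂ))
      (ψ := χbar) hsb''
  have hdef := h _ hB hBnp
  -- compare the defects
  unfold blockDefect at hdef ⊢
  rw [← hmin]
  show (Nat.card (C ⧸ Z)).factorization p - (charDegree (χbar : C ⧸ Z → ℂ)).factorization p < r
  have hle : sInf ((fun χ : IrrCharacter C => (charDegree (χ : C → ℂ)).factorization p) ''
      blockOf M ((Cfsg.Agent.Lib.Helper77.inflate Z χbar : IrrCharacter C) : C → ℂ)) ≤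
      (charDegree (χbar : C ⧸ Z → ℂ)).factorization p := by
    apply Nat.sInf_le
    refine ⟨Cfsg.Agent.Lib.Helper77.inflate Z χbar,
      Cfsg.Agent.Lib.Helper16.self_mem_blockOf hMtop _, ?_⟩
    show (charDegree ((Cfsg.Agent.Lib.Helper77.inflate Z χbar : IrrCharacter C) : C → ℂ)).factorization p = _
    unfold charDegree
    rw [Cfsg.Agent.Lib.Helper77.inflate_apply, QuotientGroup.mk_one]
  -- orders
  have hcard : Nat.card C = Nat.card (C ⧸ Z) * p := by
    rw [Subgroup.card_eq_card_quotient_mul_card_subgroup Z, hZ]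
  have hqpos : Nat.card (C ⧸ Z) ≠ 0 := Nat.card_pos.ne'
  have hfac : (Nat.card C).factorization p = (Nat.card (C ⧸ Z)).factorization p + 1 := by
    rw [hcard, Nat.factorization_mul hqpos hp.ne_zero, Finsupp.add_apply, hp.factorization_self]
  have hdvd := Cfsg.Agent.Lib.Helper79.irr_charDegree_dvd_card χbar
  have hdeg0 : charDegree (χbar : C ⧸ Z → ℂ) ≠ 0 := by
    intro h0
    rw [h0, zero_dvd_iff] at hdvd
    exact hqpos hdvd
  have hm : (charDegree (χbar : C ⧸ Z → ℂ)).factorization p ≤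
      (Nat.card (C ⧸ Z)).factorization p :=
    (Nat.factorization_le_iff_dvd hdeg0 hqpos).mpr hdvd p
  omega

end Cfsg.Agent.Lib.Helper79.S4719
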